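import Groth.Agent.CAlgH3.SupportSheaf
import Groth.Agent.Supp15.LCQCoh

/-!
# Local cohomology sheaves of a locally closed support as sheafified presheaves
-/

set_option autoImplicit false
set_option backward.isDefEq.respectTransparency.types false
universe u

open CategoryTheory CategoryTheory.Limits CategoryTheory.Abelian Opposite TopologicalSpace
open Groth.Agent.CAlgH3

namespace Groth.Agent.CohDer1.SuppLC

open Groth.Agent.SiteCoh (opensIncl)

variable {X : TopCat.{u}} {W V : Opens X} (h : W ≤ V)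

/-- `V' ↦ ℤ_{V ∩ V'}/ℤ_{W ∩ V'}` -/
noncomputable def zqFun : Opens X ⥤ CohTop.Ab X where
  obj A := LocCohZ.zq (inf_le_inf_right A h : W ⊓ A ≤ V ⊓ A)
  map {A B} i := LocCohZ.zqMap _ _ (inf_le_inf_left W (leOfHom i)) (inf_le_inf_left V (leOfHom i))
  map_id A := SuppFam.zqMap_id _
  map_comp {A B D} i j := (SuppFam.zqMap_comp _ _ _ _ _ _ _).symm

/-- The image in `X` of the trace of `A` on `V`. -/
abbrev tr (A : Opens X) : Opens X := (opensIncl V).obj ((Opens.map (CohCx.incl V)).obj A)

omit h in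
theorem tr_eq (A : Opens X) : tr (V := V) A = V ⊓ A := (SupportSheaf.image_preimage V A).trans (inf_comm _ _)

/-- The section underlying a morphism out of `ℤ_{V∩A}/ℤ_{W∩A}`. -/
noncomputable def sec (F : CohTop.Ab X) (A : Opens X) : ((zqFun h).obj A ⟶ F) →+ F.obj.obj (op (tr (V := V) A)) :=
  (F.obj.map (homOfLE (tr_eq A).le).op).hom.comp
    ((CohFree.evalGen (Opens.grothendieckTopology X) (V ⊓ A) F).comp
      (AddMonoidHom.mk' (fun φ => cokernel.π _ ≫ φ) fun _ _ => Preadditive.comp_add _ _ _ _ _ _))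

theorem res_res' (F : CohTop.Ab X) {A B C : Opens X} (f : op A ⟶ op B) (g : op B ⟶ op C) (f' : op A ⟶ op C)
    (s : F.obj.obj (op A)) : (F.obj.map g).hom ((F.obj.map f).hom s) = (F.obj.map f').hom s := by
  rw [Subsingleton.elim f' (f ≫ g), F.obj.map_comp]; rfl

theorem sec_injective (F : CohTop.Ab X) (A : Opens X) : Function.Injective (sec h F A) := by
  intro φ φ' e
  refine (cancel_epi (cokernel.π _)).1 ((CohFree.homEquivSect (Opens.grothendieckTopology X) (V ⊓ A) F).injective ?_)
  have e' := congrArg (F.obj.map (homOfLE (tr_eq (V := V) A).ge).op).hom e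
  unfold sec at e'
  simp only [AddMonoidHom.coe_comp, Function.comp_apply, AddMonoidHom.mk'_apply] at e'
  rw [res_res' F _ _ (𝟙 _), res_res' F _ _ (𝟙 _), F.obj.map_id] at e'
  exact e'

theorem sec_vanish (F : CohTop.Ab X) (A : Opens X) (φ : (zqFun h).obj A ⟶ F) {B : Opens X}
    (hB : B ≤ tr (V := V) A) (hB' : B ≤ W) : (F.obj.map (homOfLE hB).op).hom (sec h F A φ) = 0 := by
  unfold sec
  simp only [AddMonoidHom.coe_comp, Function.comp_apply, AddMonoidHom.mk'_apply]
  have hle : B ≤ W ⊓ A := le_inf hB' (hB.trans ((tr_eq A).le.trans inf_le_right))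
  rw [res_res' F _ _ ((homOfLE (inf_le_inf_right A h : W ⊓ A ≤ V ⊓ A)).op ≫ (homOfLE hle).op), F.obj.map_comp,
    AddCommGrpCat.hom_comp, AddMonoidHom.comp_apply, ← CohFree.evalGen_freeSheafMap_comp, cokernel.condition_assoc,
    zero_comp, map_zero, map_zero]

theorem exists_sec (F : CohTop.Ab X) (A : Opens X) (t : F.obj.obj (op (tr (V := V) A)))
    (ht : ∀ {B : Opens X} (hB : B ≤ tr (V := V) A), B ≤ W → (F.obj.map (homOfLE hB).op).hom t = 0) :
    ∃ φ, sec h F A φ = t := by
  let J := Opens.grothendieckTopology X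
  let s := (F.obj.map (homOfLE (tr_eq (V := V) A).ge).op).hom t
  have hs : CohCx.freeSheafMap J (homOfLE (inf_le_inf_right A h : W ⊓ A ≤ V ⊓ A)) ≫ CohFree.ofSect J (V ⊓ A) F s = 0 := by
    apply (CohFree.homEquivSect J _ F).injective
    rw [map_zero]
    rw [CohFree.homEquivSect_apply, CohFree.evalGen_freeSheafMap_comp, CohFree.evalGen_ofSect, res_res' F _ _ (homOfLE ((inf_le_inf_right A h).trans (tr_eq (V := V) A).ge)).op]
    exact ht _ inf_le_left
  refine ⟨cokernel.desc _ (CohFree.ofSect J (V ⊓ A) F s) hs, ?_⟩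
  unfold sec
  simp only [AddMonoidHom.coe_comp, Function.comp_apply, AddMonoidHom.mk'_apply, cokernel.π_desc]
  rw [CohFree.evalGen_ofSect, res_res' F _ _ (𝟙 _), F.obj.map_id]
  rfl

/-- The inclusion of sections with supports into sections. -/
noncomputable abbrev inc (F : CohTop.Ab X) (A : Opens X) :
    ((SuppFam.sectSuppLC h).obj F).obj.obj (op A) →+ F.obj.obj (op (tr (V := V) A)) :=
  ((SupportSheaf.iota (SuppFam.inOpen V W) ((CohTop.restrFunctor V).obj F)).hom.app
    (op ((Opens.map (CohCx.incl V)).obj A))).hom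

theorem inc_injective (F : CohTop.Ab X) (A : Opens X) : Function.Injective (inc h F A) :=
  SupportSheaf.iota_injective _ _ _

theorem inc_vanish (F : CohTop.Ab X) (A : Opens X) (a : ((SuppFam.sectSuppLC h).obj F).obj.obj (op A))
    {B : Opens X} (hB : B ≤ tr (V := V) A) (hB' : B ≤ W) : (F.obj.map (homOfLE hB).op).hom (inc h F A a) = 0 := by
  have hz := Supp15.iota_res_eq_zero (SuppFam.inOpen V W) ((CohTop.restrFunctor V).obj F)
    ((Opens.map (CohCx.incl V)).obj A) a
  let m : Opens (TopCat.of V) := (Opens.map (CohCx.incl V)).obj A ⊓ SuppFam.inOpen V W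
  have hm : B ≤ (opensIncl V).obj m := fun x hx => by
    obtain ⟨y, hy, rfl⟩ := hB hx
    exact ⟨y, ⟨hy, hB' hx⟩, rfl⟩
  have hm' : (opensIncl V).obj m ≤ tr (V := V) A := leOfHom ((opensIncl V).map (homOfLE inf_le_left))
  have hz' : (F.obj.map (homOfLE hm').op).hom (inc h F A a) = 0 := hz
  rw [← res_res' F (homOfLE hm').op (homOfLE hm).op (homOfLE hB).op, hz', map_zero]

theorem exists_inc (F : CohTop.Ab X) (A : Opens X) (t : F.obj.obj (op (tr (V := V) A)))
    (ht : ∀ {B : Opens X} (hB : B ≤ tr (V := V) A), B ≤ W → (F.obj.map (homOfLE hB).op).hom t = 0) :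
    ∃ a, inc h F A a = t :=
  Supp15.exists_iota (SuppFam.inOpen V W) ((CohTop.restrFunctor V).obj F) ((Opens.map (CohCx.incl V)).obj A) t
    (ht (leOfHom ((opensIncl V).map (homOfLE inf_le_left))) (by rintro _ ⟨y, hy, rfl⟩; exact hy.2))

/-- The comparison. -/
noncomputable def cmp (F : CohTop.Ab X) (A : Opens X) :
    ((zqFun h).obj A ⟶ F) →+ ((SuppFam.sectSuppLC h).obj F).obj.obj (op A) :=
  AddMonoidHom.mk' (fun φ => (exists_inc h F A (sec h F A φ) (sec_vanish h F A φ)).choose) fun φ ψ => by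
    apply inc_injective h F A
    exact (exists_inc h F A (sec h F A (φ + ψ)) (sec_vanish h F A (φ + ψ))).choose_spec.trans
      ((map_add (sec h F A) φ ψ).trans ((congrArg₂ (· + ·) (exists_inc h F A (sec h F A φ) (sec_vanish h F A φ)).choose_spec
        (exists_inc h F A (sec h F A ψ) (sec_vanish h F A ψ)).choose_spec).symm.trans (map_add (inc h F A) _ _).symm))

theorem inc_cmp (F : CohTop.Ab X) (A : Opens X) (φ : (zqFun h).obj A ⟶ F) :
    inc h F A (cmp h F A φ) = sec h F A φ :=
  (exists_inc h F A (sec h F A φ) (sec_vanish h F A φ)).choose_spec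

theorem cmp_bijective (F : CohTop.Ab X) (A : Opens X) : Function.Bijective (cmp h F A) := by
  refine ⟨fun φ ψ e => sec_injective h F A ?_, fun a => ?_⟩
  · rw [← inc_cmp, ← inc_cmp, e]
  · obtain ⟨φ, hφ⟩ := exists_sec h F A (inc h F A a) (inc_vanish h F A a)
    exact ⟨φ, inc_injective h F A ((inc_cmp h F A φ).trans hφ)⟩

theorem sec_res (F : CohTop.Ab X) {A B : Opens X} (i : B ⟶ A) (φ : (zqFun h).obj A ⟶ F) :
    sec h F B ((zqFun h).map i ≫ φ) =
      (F.obj.map ((opensIncl V).map ((Opens.map (CohCx.incl V)).map i)).op).hom (sec h F A φ) := by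
  let J := Opens.grothendieckTopology X
  let j : V ⊓ B ⟶ V ⊓ A := homOfLE (inf_le_inf_left V (leOfHom i))
  let s := CohFree.evalGen J (V ⊓ A) F (cokernel.π _ ≫ φ)
  have e : CohFree.evalGen J (V ⊓ B) F (cokernel.π _ ≫ (zqFun h).map i ≫ φ) = (F.obj.map j.op).hom s := by
    refine Eq.trans ?_ (CohFree.evalGen_freeSheafMap_comp J j F (cokernel.π _ ≫ φ))
    refine congrArg (CohFree.evalGen J (V ⊓ B) F) ?_
    simp only [zqFun, LocCohZ.zqMap, cokernel.π_desc_assoc, Category.assoc]
    rfl
  unfold sec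
  simp only [AddMonoidHom.coe_comp, Function.comp_apply, AddMonoidHom.mk'_apply]
  refine (congrArg (F.obj.map (homOfLE (tr_eq (V := V) B).le).op).hom e).trans ?_
  exact (res_res' F j.op (homOfLE (tr_eq (V := V) B).le).op
    ((homOfLE (tr_eq (V := V) A).le).op ≫ ((opensIncl V).map ((Opens.map (CohCx.incl V)).map i)).op) s).trans
    (res_res' F (homOfLE (tr_eq (V := V) A).le).op ((opensIncl V).map ((Opens.map (CohCx.incl V)).map i)).op _ s).symm

theorem sec_map {F G : CohTop.Ab X} (f : F ⟶ G) (A : Opens X) (φ : (zqFun h).obj A ⟶ F) :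
    sec h G A (φ ≫ f) = (f.hom.app (op (tr (V := V) A))).hom (sec h F A φ) := by
  unfold sec
  simp only [AddMonoidHom.coe_comp, Function.comp_apply, AddMonoidHom.mk'_apply]
  exact (congrArg (G.obj.map (homOfLE (tr_eq (V := V) A).le).op).hom
      (congrArg (CohFree.evalGen (Opens.grothendieckTopology X) (V ⊓ A) G) (Category.assoc _ φ f).symm)).trans
    (ConcreteCategory.congr_hom (f.hom.naturality (homOfLE (tr_eq (V := V) A).le).op) _).symm

/-- Sections with supports in a locally closed set as morphisms out of `ℤ_{V∩A}/ℤ_{W∩A}`. -/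
noncomputable def preIso :
    SiteCoh.homGroups (zqFun h) ≅
      SuppFam.sectSuppLC h ⋙ sheafToPresheaf (Opens.grothendieckTopology X) AddCommGrpCat.{u} :=
  NatIso.ofComponents (fun F => NatIso.ofComponents
    (fun A => AddEquiv.toAddCommGrpIso (AddEquiv.ofBijective (cmp h F A.unop) (cmp_bijective h F A.unop)))
    (fun {A B} i => by
      ext φ
      change ((zqFun h).obj A.unop ⟶ F) at φ
      apply inc_injective h F B.unop
      refine (inc_cmp h F B.unop ((zqFun h).map i.unop ≫ φ)).trans ?_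
      rw [sec_res, ← inc_cmp h F A.unop φ]
      exact (ConcreteCategory.congr_hom ((SupportSheaf.iota (SuppFam.inOpen V W) ((CohTop.restrFunctor V).obj F)).hom.naturality
        ((Opens.map (CohCx.incl V)).map i.unop).op) (cmp h F A.unop φ)).symm))
    (fun {F G} f => by
      ext A φ
      change ((zqFun h).obj A.unop ⟶ F) at φ
      apply inc_injective h G A.unop
      refine (inc_cmp h G A.unop (φ ≫ f)).trans ?_
      rw [sec_map, ← inc_cmp h F A.unop φ]
      exact (ConcreteCategory.congr_hom (NatTrans.congr_app (congrArg (fun m => m.hom)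
        (kernel.lift_ι _ (SupportSheaf.iota (SuppFam.inOpen V W) ((CohTop.restrFunctor V).obj F) ≫
          (CohTop.restrFunctor V).map f) _)) (op ((Opens.map (CohCx.incl V)).obj A.unop))) (cmp h F A.unop φ)).symm)

/-- The derived functors are the sheafified groups with supports. -/
noncomputable def HZshLCIso (q : ℕ) :
    SuppFam.HZshLC h q ≅ SiteCoh.extGroups (zqFun h) q ⋙ presheafToSheaf (Opens.grothendieckTopology X) AddCommGrpCat.{u} :=
  SiteCoh.rightDerivedCongr
    ((Functor.rightUnitor _).symm ≪≫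
      Functor.isoWhiskerLeft (SuppFam.sectSuppLC h)
        (asIso (sheafificationAdjunction (Opens.grothendieckTopology X) AddCommGrpCat.{u}).counit).symm ≪≫
      (Functor.associator _ _ _).symm ≪≫ Functor.isoWhiskerRight (preIso h).symm _) q ≪≫
  SiteCoh.rightDerivedCompExactIso (SiteCoh.homGroups (zqFun h))
    (presheafToSheaf (Opens.grothendieckTopology X) AddCommGrpCat.{u}) q ≪≫
  Functor.isoWhiskerRight (SiteCoh.rightDerivedHomGroupsIso (zqFun h) q) _

theorem nonempty_iso (F : CohTop.Ab X) (q : ℕ) :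
    Nonempty ((SuppFam.HZshLC h q).obj F ≅
      (presheafToSheaf (Opens.grothendieckTopology X) AddCommGrpCat.{u}).obj (SuppFam.HZpre F q h)) :=
  ⟨(HZshLCIso h q).app F ≪≫ (presheafToSheaf (Opens.grothendieckTopology X) AddCommGrpCat.{u}).mapIso
    (NatIso.ofComponents (fun A => Iso.refl _) (fun {A B} i => by
      ext x
      rfl))⟩

end Groth.Agent.CohDer1.SuppLC
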